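import Mathlib
import Groth.Agent.WildQuotLib.PSReg
import Groth.Agent.NodePtLib.Quad

/-!
# Nodes of power series quotients and the ideal of Jacobian minors
-/

set_option autoImplicit false
set_option backward.isDefEq.respectTransparency false
set_option linter.unusedSectionVars false
set_option linter.style.haveILetI false

universe u

open IsLocalRing

noncomputable section

namespace Groth.Agent.NodeMinorLib

/-! ### Determinants -/

section Det

variable {R : Type u} [CommRing R]

/-- The determinant of a product lies in any ideal containing the maximal minors of the right factor. -/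
theorem det_mul_mem {p ι : Type*} [Fintype p] [DecidableEq p] [Fintype ι] (K : Ideal R) (P : Matrix p ι R)
    (M : Matrix ι p R) (h : ∀ ρ : p → ι, Function.Injective ρ → (M.submatrix ρ id).det ∈ K) :
    (P * M).det ∈ K := by
  classical
  have e : (P * M).det = Matrix.detRowAlternating fun i => ∑ l, P i l • M l := by
    refine congrArg Matrix.det (Matrix.ext fun i j => ?_)
    simp [Matrix.mul_apply, Finset.sum_apply]
  rw [e, ← AlternatingMap.coe_multilinearMap, MultilinearMap.map_sum]
  refine Ideal.sum_mem _ fun ρ _ => ?_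
  rw [MultilinearMap.map_smul_univ, AlternatingMap.coe_multilinearMap, smul_eq_mul]
  refine Ideal.mul_mem_left _ _ ?_
  by_cases hρ : Function.Injective ρ
  · exact h ρ hρ
  · obtain ⟨i, j, hij, hne⟩ : ∃ i j, ρ i = ρ j ∧ i ≠ j := by
      simp only [Function.Injective] at hρ
      push Not at hρ
      exact hρ
    rw [AlternatingMap.map_eq_zero_of_eq _ _ (by simp [hij]) hne]
    exact zero_mem _

/-- The same for a product of three. -/
theorem det_mul_mul_mem {p ι κ : Type*} [Fintype p] [DecidableEq p] [Fintype ι] [Fintype κ] (K : Ideal R)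
    (P : Matrix p ι R) (M : Matrix ι κ R) (Q : Matrix κ p R)
    (h : ∀ (ρ : p → ι) (γ : p → κ), Function.Injective ρ → Function.Injective γ → (M.submatrix ρ γ).det ∈ K) :
    (P * M * Q).det ∈ K := by
  rw [Matrix.mul_assoc]
  refine det_mul_mem K P _ fun ρ hρ => ?_
  have e : (M * Q).submatrix ρ id = (M.submatrix ρ id) * Q := by
    ext i j
    simp [Matrix.mul_apply]
  rw [e, ← Matrix.det_transpose, Matrix.transpose_mul]
  refine det_mul_mem K _ _ fun γ hγ => ?_
  rw [← Matrix.det_transpose]
  exact h ρ γ hρ hγ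

theorem det_sub_mem {p : Type*} [Fintype p] [DecidableEq p] (I : Ideal R) (M N : Matrix p p R)
    (h : ∀ i j, M i j - N i j ∈ I) : M.det - N.det ∈ I := by
  rw [← Ideal.Quotient.eq, RingHom.map_det, RingHom.map_det]
  refine congrArg Matrix.det (Matrix.ext fun i j => ?_)
  exact Ideal.Quotient.eq.2 (h i j)

theorem det_mem_of_column {p : Type*} [Fintype p] [DecidableEq p] (I : Ideal R) (M : Matrix p p R) (j : p)
    (h : ∀ i, M i j ∈ I) : M.det ∈ I := by
  rw [← Ideal.Quotient.eq_zero_iff_mem, RingHom.map_det]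
  exact Matrix.det_eq_zero_of_column_eq_zero j fun i => Ideal.Quotient.eq_zero_iff_mem.2 (h i)

theorem det_mem_sq {p : Type*} [Fintype p] [DecidableEq p] (I : Ideal R) (M : Matrix p p R) {i₁ i₂ : p}
    (hne : i₁ ≠ i₂) (h₁ : ∀ j, M i₁ j ∈ I) (h₂ : ∀ j, M i₂ j ∈ I) : M.det ∈ I ^ 2 := by
  rw [← Matrix.det_transpose, Matrix.det_apply]
  refine Ideal.sum_mem _ fun σ _ => ?_
  rw [Units.smul_def, zsmul_eq_mul]
  refine Ideal.mul_mem_left _ _ ?_
  rw [← Finset.mul_prod_erase _ _ (Finset.mem_univ i₁), ← Finset.mul_prod_erase _ _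
    (Finset.mem_erase.2 ⟨hne.symm, Finset.mem_univ i₂⟩), ← mul_assoc]
  refine Ideal.mul_mem_right _ _ ?_
  rw [pow_two]
  exact Ideal.mul_mem_mul (h₁ _) (h₂ _)

end Det

/-- Linear forms on binary quadratic forms with isotropic span. -/
theorem exists_common_kernel {k : Type u} [Field k] (Q : k → k → k → Prop)
    (hadd : ∀ a b c a' b' c', Q a b c → Q a' b' c' → Q (a + a') (b + b') (c + c'))
    (hiso : ∀ a b c, Q a b c → 4 * a * c - b ^ 2 = 0) :
    ∃ v₁ v₂ : k, (v₁ ≠ 0 ∨ v₂ ≠ 0) ∧ ∀ a b c, Q a b c → 2 * a * v₁ + b * v₂ = 0 ∧ b * v₁ + 2 * c * v₂ = 0 := by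
  by_cases h2 : (2 : k) = 0
  · refine ⟨1, 0, Or.inl one_ne_zero, fun a b c h => ?_⟩
    have hb : b = 0 := by
      have := hiso a b c h
      rw [show (4 : k) = 2 * 2 by norm_num, h2] at this
      simpa using this
    simp [h2, hb]
  by_cases hz : ∀ a b c, Q a b c → a = 0 ∧ b = 0 ∧ c = 0
  · refine ⟨1, 0, Or.inl one_ne_zero, fun a b c h => ?_⟩
    obtain ⟨rfl, rfl, rfl⟩ := hz a b c h
    simp
  push Not at hz
  obtain ⟨a, b, c, hq, hne⟩ := hz
  have h0 := hiso a b c hq
  have hpol : ∀ a' b' c', Q a' b' c' → 4 * a * c' + 4 * a' * c - 2 * b * b' = 0 := fun a' b' c' h' => by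
    linear_combination hiso _ _ _ (hadd _ _ _ _ _ _ hq h') - h0 - hiso a' b' c' h'
  by_cases ha : a = 0
  · have hb : b = 0 := by
      rw [ha] at h0
      simpa using h0
    have hc : c ≠ 0 := hne ha hb
    refine ⟨1, 0, Or.inl one_ne_zero, fun a' b' c' h' => ?_⟩
    have ha' : a' = 0 := by
      have h := hpol a' b' c' h'
      rw [ha, hb] at h
      have : (4 : k) ≠ 0 := by
        rw [show (4 : k) = 2 * 2 by norm_num]; exact mul_ne_zero h2 h2
      simpa [this, hc] using h
    have hb' : b' = 0 := by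
      have h := hiso a' b' c' h'
      rw [ha'] at h
      simpa using h
    simp [ha', hb']
  · refine ⟨b, -(2 * a), Or.inr (neg_ne_zero.2 (mul_ne_zero h2 ha)), fun a' b' c' h' => ?_⟩
    have hp := hpol a' b' c' h'
    have h' := hiso a' b' c' h'
    have hsq : a * b' - a' * b = 0 := by
      refine eq_zero_of_pow_eq_zero (n := 2) ?_
      linear_combination (a * a') * hp - a' ^ 2 * h0 - a ^ 2 * h'
    refine ⟨by linear_combination -2 * hsq, ?_⟩
    refine mul_left_cancel₀ ha ?_
    linear_combination -a * hp + a' * h0 - b * hsq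

variable {k : Type u} [Field k] {n : ℕ}

local notation "A" => MvPowerSeries (Fin n) k

variable (k n) in
/-- The linear part. -/
def lin : A →ₗ[k] (Fin n → k) := LinearMap.pi fun l => MvPowerSeries.coeff (Finsupp.single l 1)

theorem constantCoeff_pderiv (l : Fin n) (g : A) :
    MvPowerSeries.constantCoeff (MvPowerSeries.pderiv k l g) = lin k n g l := by
  rw [← MvPowerSeries.coeff_zero_eq_constantCoeff_apply, MvPowerSeries.coeff_pderiv]
  simp [lin]

theorem lin_mul (g g' : A) :
    lin k n (g * g') = MvPowerSeries.constantCoeff g • lin k n g' + MvPowerSeries.constantCoeff g' • lin k n g := by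
  ext l
  rw [← constantCoeff_pderiv, Derivation.leibniz]
  simp [constantCoeff_pderiv]

theorem lin_C (t : k) : lin k n (MvPowerSeries.C t) = 0 := by
  ext l
  rw [← constantCoeff_pderiv, MvPowerSeries.pderiv_C, map_zero, Pi.zero_apply]

theorem lin_X (l : Fin n) : lin k n (MvPowerSeries.X l) = Pi.single l 1 := by
  classical
  ext l'
  rw [← constantCoeff_pderiv, MvPowerSeries.pderiv_X]
  by_cases h : l' = l
  · subst h; simp
  · simp [Pi.single_eq_of_ne h, Pi.single_eq_of_ne (Ne.symm h)]

theorem mem_max {g : A} : g ∈ maximalIdeal A ↔ MvPowerSeries.constantCoeff g = 0 :=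
  WildQuotLib.mem_maximalIdeal_iff_constantCoeff k g

theorem sub_const_mem (g : A) : g - MvPowerSeries.C (MvPowerSeries.constantCoeff g) ∈ maximalIdeal A := by
  rw [mem_max, map_sub, MvPowerSeries.constantCoeff_C, sub_self]

theorem lin_eq_zero_of_mem_sq {g : A} (hg : g ∈ maximalIdeal A ^ 2) : lin k n g = 0 := by
  rw [pow_two] at hg
  refine Submodule.mul_induction_on hg (fun a ha b hb => ?_) fun a b ha hb => by rw [map_add, ha, hb, add_zero]
  rw [lin_mul, mem_max.1 ha, mem_max.1 hb, zero_smul, zero_smul, add_zero]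

theorem mem_sq_of_lin_eq_zero {g : A} (hg : g ∈ maximalIdeal A) (h : lin k n g = 0) : g ∈ maximalIdeal A ^ 2 := by
  classical
  have hg' := hg
  rw [WildQuotLib.maximalIdeal_eq] at hg'
  obtain ⟨r, hr⟩ := Ideal.mem_span_range_iff_exists_fun.1 hg'
  rw [← hr]
  refine Ideal.sum_mem _ fun l _ => ?_
  rw [pow_two]
  refine Ideal.mul_mem_mul (mem_max.2 ?_) (mem_max.2 (MvPowerSeries.constantCoeff_X l))
  have h1 := congrFun (congrArg (lin k n) hr) l
  rw [h, map_sum, Finset.sum_apply, Finset.sum_eq_single l] at h1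
  · simpa [lin_mul, lin_X] using h1
  · intro b _ hb
    simp [lin_mul, lin_X, Pi.single_eq_of_ne (Ne.symm hb)]
  · simp

/-- An element of the maximal ideal with given linear part. -/
def form (v : Fin n → k) : A := ∑ l, MvPowerSeries.C (v l) * MvPowerSeries.X l

theorem form_mem (v : Fin n → k) : form v ∈ maximalIdeal A :=
  Ideal.sum_mem _ fun l _ => Ideal.mul_mem_left _ _ (mem_max.2 (MvPowerSeries.constantCoeff_X l))

theorem lin_form (v : Fin n → k) : lin k n (form v) = v := by
  classical
  rw [form, map_sum]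
  simp only [lin_mul, lin_C, lin_X, MvPowerSeries.constantCoeff_C, MvPowerSeries.constantCoeff_X, zero_smul,
    add_zero]
  ext l
  simp [Finset.sum_apply, Pi.single_apply]

/-- A combination of the partial derivatives. -/
def dd (v : Fin n → k) : Derivation k A A := ∑ l, (MvPowerSeries.C (v l) : A) • MvPowerSeries.pderiv k l

theorem dd_apply (v : Fin n → k) (g : A) :
    dd v g = ∑ l, MvPowerSeries.C (v l) * MvPowerSeries.pderiv k l g := by
  rw [dd, ← Derivation.coeFnAddMonoidHom_apply, map_sum, Finset.sum_apply]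
  rfl

theorem const_dd (v : Fin n → k) (g : A) :
    MvPowerSeries.constantCoeff (dd v g) = ∑ l, v l * lin k n g l := by
  rw [dd_apply, map_sum]
  simp [constantCoeff_pderiv]

theorem dd_mem_of_mem_sq (v : Fin n → k) {g : A} (hg : g ∈ maximalIdeal A ^ 2) : dd v g ∈ maximalIdeal A := by
  rw [mem_max, const_dd, lin_eq_zero_of_mem_sq hg]
  simp

theorem dd_mem_of_mem_cube (v : Fin n → k) {g : A} (hg : g ∈ maximalIdeal A ^ 3) : dd v g ∈ maximalIdeal A ^ 2 := by
  rw [pow_succ] at hg
  refine Submodule.mul_induction_on hg (fun a ha b hb => ?_) fun a b ha hb => by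
    rw [map_add]; exact add_mem ha hb
  rw [Derivation.leibniz, smul_eq_mul, smul_eq_mul]
  refine add_mem (Ideal.mul_mem_right _ _ ha) ?_
  rw [pow_two]
  exact Ideal.mul_mem_mul hb (dd_mem_of_mem_sq v ha)

end Groth.Agent.NodeMinorLib
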