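import Groth.Agent.NodeMinorLib.Basic

/-!
# The ideal of Jacobian minors is maximal exactly at quadratic points
-/

set_option autoImplicit false
set_option backward.isDefEq.respectTransparency false
set_option linter.unusedSectionVars false
set_option linter.style.haveILetI false
set_option maxHeartbeats 1600000

universe u

open IsLocalRing

noncomputable section

namespace Groth.Agent.NodeMinorLib

variable {k : Type u} [Field k] {n m : ℕ}

local notation "A" => MvPowerSeries (Fin n) k

variable (f : Fin m → MvPowerSeries (Fin n) k)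

local notation "I" => Ideal.span (Set.range f)

/-- The ideal generated by the equations and the Jacobian minors. -/
def jac : Ideal A :=
  Ideal.span {d : A | ∃ (ρ : Fin (n - 1) → Fin m) (γ : Fin (n - 1) → Fin n), Function.Injective ρ ∧ Function.Injective γ ∧
    d = ((Matrix.of fun (j : Fin m) (i : Fin n) => MvPowerSeries.pderiv k i (f j)).submatrix ρ γ).det} ⊔ I

/-- The space of linear parts. -/
def lspan : Submodule k (Fin n → k) := ((I).restrictScalars k).map (lin k n)

theorem lin_mem_lspan {g : A} (hg : g ∈ I) : lin k n g ∈ lspan f := ⟨g, hg, rfl⟩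

/-- Minors in arbitrary combinations of the derivations and equations. -/
theorem minor_mem {p : Type} [Fintype p] [DecidableEq p] (hp : Fintype.card p = n - 1) (v : p → Fin n → k)
    (h : p → A) (hh : ∀ j, h j ∈ I) : (Matrix.of fun j i => dd (v i) (h j)).det ∈ jac f := by
  classical
  choose a ha using fun j => Ideal.mem_span_range_iff_exists_fun.1 (hh j)
  let M : Matrix (Fin m) (Fin n) A := Matrix.of fun j i => MvPowerSeries.pderiv k i (f j)
  let P : Matrix p (Fin m) A := Matrix.of a
  let Q : Matrix (Fin n) p A := Matrix.of fun l i => MvPowerSeries.C (v i l)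
  have hPMQ : (P * M * Q).det ∈ jac f := det_mul_mul_mem _ P M Q fun ρ γ hρ hγ => by
    let e : Fin (n - 1) ≃ p := (Fintype.equivFinOfCardEq hp).symm
    rw [← Matrix.det_submatrix_equiv_self e, Matrix.submatrix_submatrix]
    exact Submodule.mem_sup_left (Ideal.subset_span ⟨ρ ∘ e, γ ∘ e, hρ.comp e.injective, hγ.comp e.injective, rfl⟩)
  have hsub : (Matrix.of fun j i => dd (v i) (h j)).det - (P * M * Q).det ∈ I := by
    refine det_sub_mem _ _ _ fun j i => ?_
    have e1 : dd (v i) (h j) - ∑ l', a j l' * dd (v i) (f l') ∈ I := by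
      rw [← ha j, map_sum, ← Finset.sum_sub_distrib]
      refine Ideal.sum_mem _ fun l' _ => ?_
      rw [Derivation.leibniz, smul_eq_mul, smul_eq_mul, add_sub_cancel_left]
      exact Ideal.mul_mem_right _ _ (Ideal.subset_span ⟨l', rfl⟩)
    have e2 : (P * M * Q) j i = ∑ l', a j l' * dd (v i) (f l') := by
      simp only [Matrix.mul_apply, Finset.sum_mul, dd_apply, Finset.mul_sum, P, M, Q, Matrix.of_apply]
      rw [Finset.sum_comm]
      exact Finset.sum_congr rfl fun _ _ => Finset.sum_congr rfl fun _ _ => by ring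
    rw [e2]
    exact e1
  rw [← sub_add_cancel (Matrix.det _) (P * M * Q).det]
  exact add_mem (Submodule.mem_sup_right hsub) hPMQ

/-- Pairing with coordinates. -/
theorem sum_coord {ι : Type*} (B : Module.Basis ι k (Fin n → k)) (s : ι) (w : Fin n → k) :
    ∑ l, B.coord s (Pi.single l 1) * w l = B.coord s w := by
  classical
  conv_rhs => rw [pi_eq_sum_univ' w, map_sum]
  refine Finset.sum_congr rfl fun l _ => ?_
  rw [map_smul, smul_eq_mul, mul_comm]

/-- Coordinates. -/
def vv {ι : Type*} (B : Module.Basis ι k (Fin n → k)) (s : ι) : Fin n → k := fun l => B.coord s (Pi.single l 1)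

theorem const_dd_vv {ι : Type*} (B : Module.Basis ι k (Fin n → k)) (s : ι) (g : A) :
    MvPowerSeries.constantCoeff (dd (vv B s) g) = B.coord s (lin k n g) := by
  rw [const_dd]
  exact sum_coord B s _

theorem sum_vv_pderiv {ι : Type*} [Fintype ι] (B : Module.Basis ι k (Fin n → k)) (l : Fin n) (g : A) :
    MvPowerSeries.pderiv k l g = ∑ s, MvPowerSeries.C (B s l) * dd (vv B s) g := by
  classical
  simp only [dd_apply, Finset.mul_sum, ← mul_assoc, ← map_mul]
  rw [Finset.sum_comm]
  have e : ∀ l', (∑ s, MvPowerSeries.C (B s l * vv B s l') : A) = MvPowerSeries.C ((Pi.single l' (1 : k) : Fin n → k) l) := by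
    intro l'
    rw [← map_sum]
    conv_rhs => rw [← B.sum_repr (Pi.single l' 1), Finset.sum_apply]
    refine congrArg _ (Finset.sum_congr rfl fun s _ => ?_)
    simp [vv, mul_comm]
  simp only [← Finset.sum_mul, e]
  rw [Finset.sum_eq_single l]
  · simp
  · intro b _ hb
    simp [Pi.single_eq_of_ne (Ne.symm hb)]
  · simp

theorem sum_vv {ι : Type*} (B : Module.Basis ι k (Fin n → k)) (s : ι) (w : Fin n → k) :
    ∑ l, vv B s l * w l = B.coord s w :=
  sum_coord B s w

/-- The ideal cut out in the maximal ideal by a linear form on linear parts. -/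
def lamIdeal (Λ : (Fin n → k) →ₗ[k] k) : Ideal A where
  carrier := {z | z ∈ maximalIdeal A ∧ Λ (lin k n z) = 0}
  add_mem' := fun {p q} hp hq => ⟨add_mem hp.1 hq.1, by rw [map_add, map_add, hp.2, hq.2, add_zero]⟩
  zero_mem' := ⟨zero_mem _, by simp⟩
  smul_mem' := fun c z hz => ⟨Ideal.mul_mem_left _ _ hz.1, by
    rw [smul_eq_mul, lin_mul, mem_max.1 hz.1, zero_smul, add_zero, map_smul, hz.2, smul_zero]⟩

theorem mem_lamIdeal (Λ : (Fin n → k) →ₗ[k] k) {z : A} :
    z ∈ lamIdeal Λ ↔ z ∈ maximalIdeal A ∧ Λ (lin k n z) = 0 := Iff.rfl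

/-- Derivatives of a quadratic form. -/
theorem lin_dd_qv (v : Fin n → k) (a b c : k) {x y : A} (hx : x ∈ maximalIdeal A) (hy : y ∈ maximalIdeal A) :
    lin k n (dd v (NodePtLib.qv (MvPowerSeries.C a) (MvPowerSeries.C b) (MvPowerSeries.C c) x y)) =
      (2 * a * (∑ l, v l * lin k n x l) + b * (∑ l, v l * lin k n y l)) • lin k n x +
      (b * (∑ l, v l * lin k n x l) + 2 * c * (∑ l, v l * lin k n y l)) • lin k n y := by
  have hC : ∀ t : k, dd v (MvPowerSeries.C t : A) = 0 := fun t => by
    rw [dd_apply]; simp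
  simp only [NodePtLib.qv, pow_two, map_add, Derivation.leibniz, smul_eq_mul, hC, mul_zero, add_zero, lin_mul,
    map_mul, map_zero, MvPowerSeries.constantCoeff_C, mem_max.1 hx, mem_max.1 hy, lin_C, const_dd, smul_zero,
    zero_smul, zero_add]
  module

section Coord

variable {f} (hf : ∀ j, f j ∈ maximalIdeal (MvPowerSeries (Fin n) k))
  {r : ℕ} (B : Module.Basis (Fin 2 ⊕ Fin r) k (Fin n → k)) (h : Fin r → MvPowerSeries (Fin n) k)
  (hI : ∀ j, h j ∈ Ideal.span (Set.range f)) (hB : ∀ j, lin k n (h j) = B (Sum.inr j))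

include hf in
theorem span_le_max : I ≤ maximalIdeal A := Ideal.span_le.2 (by rintro _ ⟨j, rfl⟩; exact hf j)

theorem coord_inl_eq_zero (hW : lspan f ≤ Submodule.span k (Set.range fun j => B (Sum.inr j))) (a : Fin 2)
    {w : Fin n → k} (hw : w ∈ lspan f) : B.coord (Sum.inl a) w = 0 := by
  have h1 : Submodule.span k (Set.range fun j => B (Sum.inr j)) ≤ LinearMap.ker (B.coord (Sum.inl a)) := by
    rw [Submodule.span_le]
    rintro _ ⟨j, rfl⟩
    simp [Finsupp.single_apply]
  exact h1 (hW hw)

include hf hI hB in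
/-- The derivatives of a relation without linear part are congruent to elements of the ideal. -/
theorem dd_mem_jac_sup (hn : n = r + 2) (a : Fin 2) {g : A} (hg : g ∈ I) (hg2 : lin k n g = 0) :
    dd (vv B (Sum.inl a)) g ∈ jac f ⊔ maximalIdeal A ^ 2 := by
  classical
  let rows : Fin (r + 1) → A := Fin.cons g h
  let cols : Fin (r + 1) → Fin n → k := Fin.cons (vv B (Sum.inl a)) fun j => vv B (Sum.inr j)
  have hD : (Matrix.of fun j i => dd (cols i) (rows j)).det ∈ jac f := minor_mem f (by simp [hn]) cols rows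
    (fun j => by induction j using Fin.cases with
      | zero => exact hg
      | succ j => exact hI j)
  have hgm : g ∈ maximalIdeal A := span_le_max hf hg
  have hg' : g ∈ maximalIdeal A ^ 2 := mem_sq_of_lin_eq_zero hgm hg2
  set M : Matrix (Fin (r + 1)) (Fin (r + 1)) A := Matrix.of fun j i => dd (cols i) (rows j) with hM
  rw [show dd (vv B (Sum.inl a)) g = M.det - (M.det - M 0 0) from (sub_sub_cancel _ _).symm]
  refine sub_mem (Submodule.mem_sup_left hD) (Submodule.mem_sup_right ?_)
  rw [Matrix.det_succ_row_zero, Fin.sum_univ_succ]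
  simp only [Fin.val_zero, pow_zero, one_mul, Fin.succAbove_zero]
  rw [show ∀ p q s : A, p * q + s - p = p * (q - 1) + s from fun p q s => by ring, pow_two]
  refine add_mem (Ideal.mul_mem_mul (dd_mem_of_mem_sq _ hg') ?_) (Ideal.sum_mem _ fun i _ => ?_)
  · rw [← Matrix.det_one (n := Fin r) (R := A)]
    refine det_sub_mem _ _ _ fun j i => ?_
    rw [mem_max, map_sub, Matrix.submatrix_apply]
    show MvPowerSeries.constantCoeff (dd (cols i.succ) (rows j.succ)) - _ = 0
    simp only [rows, cols, Fin.cons_succ, const_dd_vv, hB]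
    by_cases hji : j = i
    · subst hji; simp
    · simp [hji, Matrix.one_apply_ne hji]
  · rw [mul_assoc]
    refine Ideal.mul_mem_left _ _ (Ideal.mul_mem_mul (dd_mem_of_mem_sq _ hg') ?_)
    refine det_mem_of_column _ _ ⟨0, (Nat.pos_of_ne_zero fun h0 => by subst h0; exact i.elim0)⟩ fun j => ?_
    rw [mem_max, Matrix.submatrix_apply]
    show MvPowerSeries.constantCoeff (dd (cols (i.succ.succAbove ⟨0, _⟩)) (rows j.succ)) = 0
    rw [Fin.succAbove_of_castSucc_lt _ _ (by simp [Fin.lt_def])]
    simp [rows, cols, const_dd_vv, hB]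

/-- Minors in the adapted generators and coordinates. -/
theorem minor_coord_mem (K : Ideal A) (hK : maximalIdeal A ^ 2 ≤ K) (hB : ∀ j, lin k n (h j) = B (Sum.inr j))
    (g : Fin m → A) (hg : ∀ j, g j ∈ maximalIdeal A ^ 2) (hgK : ∀ j a, dd (vv B (Sum.inl a)) (g j) ∈ K)
    (q : ℕ) (hq : q = r) (ρ : Fin (q + 1) → Fin r ⊕ Fin m) (γ : Fin (q + 1) → Fin 2 ⊕ Fin r)
    (hρ : Function.Injective ρ) (hγ : Function.Injective γ) :
    (Matrix.of fun i j => dd (vv B (γ j)) (Sum.elim h g (ρ i))).det ∈ K := by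
  classical
  subst hq
  obtain ⟨i₀, l, hl⟩ : ∃ i₀ l, ρ i₀ = Sum.inr l := by
    by_contra! hcon
    have hex : ∀ i, ∃ t, ρ i = Sum.inl t := fun i => by
      rcases hρi : ρ i with t | t
      exacts [⟨t, rfl⟩, absurd hρi (hcon i t)]
    choose t ht using hex
    have := Fintype.card_le_of_injective t fun i j hij => hρ (by rw [ht, ht, hij])
    simp at this
  set M : Matrix (Fin (q + 1)) (Fin (q + 1)) A := Matrix.of fun i j => dd (vv B (γ j)) (Sum.elim h g (ρ i)) with hM
  by_cases htwo : ∃ i₁, i₁ ≠ i₀ ∧ ∃ l₁, ρ i₁ = Sum.inr l₁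
  · obtain ⟨i₁, hne, l₁, hl₁⟩ := htwo
    refine hK (det_mem_sq _ _ hne.symm (fun j => ?_) fun j => ?_)
    · simp only [hM, Matrix.of_apply, hl, Sum.elim_inr]
      exact dd_mem_of_mem_sq _ (hg _)
    · simp only [hM, Matrix.of_apply, hl₁, Sum.elim_inr]
      exact dd_mem_of_mem_sq _ (hg _)
  push Not at htwo
  rw [Matrix.det_succ_row M i₀]
  refine Ideal.sum_mem _ fun j _ => ?_
  rw [mul_assoc]
  refine Ideal.mul_mem_left _ _ ?_
  rcases hγj : γ j with a | t
  · refine Ideal.mul_mem_right _ _ ?_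
    simp only [hM, Matrix.of_apply, hl, hγj, Sum.elim_inr]
    exact hgK l a
  · obtain ⟨j', a, hj'⟩ : ∃ j' a, γ j' = Sum.inl a := by
      by_contra! hcon
      have hex : ∀ i, ∃ t, γ i = Sum.inr t := fun i => by
        rcases hγi : γ i with t | t
        exacts [absurd hγi (hcon i t), ⟨t, rfl⟩]
      choose t' ht using hex
      have := Fintype.card_le_of_injective t' fun i j hij => hγ (by rw [ht, ht, hij])
      simp at this
    have hne : j' ≠ j := fun e => by rw [e, hγj] at hj'; exact absurd hj' (by simp)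
    obtain ⟨j'', hj''⟩ := Fin.exists_succAbove_eq hne
    refine hK ?_
    rw [pow_two]
    refine Ideal.mul_mem_mul ?_ (det_mem_of_column _ _ j'' fun i => ?_)
    · simp only [hM, Matrix.of_apply, hl, Sum.elim_inr]
      exact dd_mem_of_mem_sq _ (hg _)
    · obtain ⟨t', ht'⟩ : ∃ t', ρ (i₀.succAbove i) = Sum.inl t' := by
        rcases hρi : ρ (i₀.succAbove i) with t' | t'
        exacts [⟨t', rfl⟩, absurd hρi (htwo _ (Fin.succAbove_ne _ _) t')]
      simp only [hM, Matrix.submatrix_apply, Matrix.of_apply, ht', Sum.elim_inl, hj'', hj']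
      rw [mem_max, const_dd_vv, hB]
      simp

end Coord

variable {f} (hf : ∀ j, f j ∈ maximalIdeal (MvPowerSeries (Fin n) k))

include hf in
/-- Few independent linear parts make the minors lie in the maximal ideal. -/
theorem jac_le_max (hr : Module.finrank k (lspan f) + 2 ≤ n) : jac f ≤ maximalIdeal A := by
  refine sup_le (Ideal.span_le.2 ?_) (span_le_max hf)
  rintro _ ⟨ρ, γ, hρ, -, rfl⟩
  rw [SetLike.mem_coe, mem_max, RingHom.map_det]
  by_contra hne
  have hli := Matrix.linearIndependent_rows_of_det_ne_zero hne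
  have hli' : LinearIndependent k fun i => (⟨lin k n (f (ρ i)), lin_mem_lspan f (Ideal.subset_span ⟨ρ i, rfl⟩)⟩ : lspan f) := by
    refine LinearIndependent.of_comp ((LinearMap.funLeft k k γ).comp (lspan f).subtype) ?_
    have e : (fun i => MvPowerSeries.constantCoeff.mapMatrix
        ((Matrix.of fun (j : Fin m) (i : Fin n) => MvPowerSeries.pderiv k i (f j)).submatrix ρ γ) i) =
        ((LinearMap.funLeft k k γ).comp (lspan f).subtype : lspan f → Fin (n - 1) → k) ∘
          fun i => (⟨lin k n (f (ρ i)), lin_mem_lspan f (Ideal.subset_span ⟨ρ i, rfl⟩)⟩ : lspan f) := by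
      ext i j
      simp [Function.comp_def, LinearMap.funLeft, constantCoeff_pderiv]
    exact (e ▸ hli :)
  have := hli'.fintype_card_le_finrank
  rw [Fintype.card_fin] at this
  omega

include hf in
/-- Many independent linear parts give a unit minor. -/
theorem jac_eq_top (hr : n ≤ Module.finrank k (lspan f) + 1) : jac f = ⊤ := by
  classical
  have hle : n - 1 ≤ Module.finrank k (lspan f) := by omega
  let b := Module.finBasis k (lspan f)
  let w : Fin (n - 1) → Fin n → k := fun j => (b (Fin.castLE hle j) : lspan f)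
  have hw : LinearIndependent k w :=
    (b.linearIndependent.comp _ (Fin.castLE_injective hle)).map' (lspan f).subtype (Submodule.ker_subtype _)
  choose h hh hhw using fun j => Submodule.mem_map.1 (b (Fin.castLE hle j)).2
  obtain ⟨φ, hφ⟩ := LinearMap.exists_leftInverse_of_injective (Fintype.linearCombination k w)
    (LinearMap.ker_eq_bot.2 hw.fintypeLinearCombination_injective)
  let v : Fin (n - 1) → Fin n → k := fun i l => φ (Pi.single l 1) i
  have hd := minor_mem f (by simp) v h hh
  refine Ideal.eq_top_of_isUnit_mem _ hd ?_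
  rw [MvPowerSeries.isUnit_iff_constantCoeff, RingHom.map_det]
  rw [show (MvPowerSeries.constantCoeff).mapMatrix (Matrix.of fun j i => dd (v i) (h j)) = 1 from ?_, Matrix.det_one]
  · exact isUnit_one
  refine Matrix.ext fun j i => ?_
  rw [RingHom.mapMatrix_apply, Matrix.map_apply, Matrix.of_apply, const_dd, hhw]
  have e := congrFun (LinearMap.congr_fun hφ (Pi.single j 1)) i
  rw [LinearMap.comp_apply, Fintype.linearCombination_apply_single, one_smul] at e
  rw [pi_eq_sum_univ' (w j), map_sum, Finset.sum_apply] at e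
  refine Eq.trans (Finset.sum_congr rfl fun l _ => ?_) (e.trans ?_)
  · rw [map_smul, Pi.smul_apply, smul_eq_mul, mul_comm]
  · simp [Matrix.one_apply, Pi.single_apply, eq_comm]

/-- Few linear parts put the minors in the square of the maximal ideal. -/
theorem minor_mem_sq (hr : Module.finrank k (lspan f) + 3 ≤ n) (ρ : Fin (n - 1) → Fin m) (γ : Fin (n - 1) → Fin n) :
    ((Matrix.of fun (j : Fin m) (i : Fin n) => MvPowerSeries.pderiv k i (f j)).submatrix ρ γ).det ∈
      maximalIdeal A ^ 2 := by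
  classical
  let w : Fin (n - 1) → lspan f := fun j => ⟨lin k n (f (ρ j)), lin_mem_lspan f (Ideal.subset_span ⟨ρ j, rfl⟩)⟩
  let T : (Fin (n - 1) → k) →ₗ[k] lspan f := Fintype.linearCombination k w
  obtain ⟨U, hU⟩ := Submodule.exists_isCompl (LinearMap.ker T)
  let b := ((Module.finBasis k (LinearMap.ker T)).prod (Module.finBasis k U)).map
    (Submodule.prodEquivOfIsCompl _ _ hU)
  have hk : 2 ≤ Module.finrank k (LinearMap.ker T) := by
    have h1 := LinearMap.finrank_range_add_finrank_ker T
    have h2 := Submodule.finrank_le (LinearMap.range T)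
    rw [Module.finrank_fin_fun] at h1
    omega
  let e := b.indexEquiv (Pi.basisFun k (Fin (n - 1)))
  let b' := b.reindex e
  let P : Matrix (Fin (n - 1)) (Fin (n - 1)) k := Matrix.of fun i j => b' i j
  have hP : IsUnit P.det := by
    rw [← Matrix.isUnit_iff_isUnit_det, ← Matrix.linearIndependent_rows_iff_isUnit]
    exact b'.linearIndependent
  set M := (Matrix.of fun (j : Fin m) (i : Fin n) => MvPowerSeries.pderiv k i (f j)).submatrix ρ γ with hM
  let P' : Matrix (Fin (n - 1)) (Fin (n - 1)) A := MvPowerSeries.C.mapMatrix P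
  have hP' : IsUnit P'.det := by
    rw [show P'.det = MvPowerSeries.C P.det from (RingHom.map_det _ _).symm]
    exact hP.map _
  rw [← Ideal.unit_mul_mem_iff_mem _ hP', ← Matrix.det_mul]
  let i₁ := e (Sum.inl ⟨0, by omega⟩)
  let i₂ := e (Sum.inl ⟨1, by omega⟩)
  have key : ∀ (t : Fin (Module.finrank k (LinearMap.ker T))) (j), (P' * M) (e (Sum.inl t)) j ∈ maximalIdeal A := by
    intro t j
    have hmem : b' (e (Sum.inl t)) ∈ LinearMap.ker T := by
      simp [b', b]
    have h0 := congrArg (fun z : lspan f => (z : Fin n → k) (γ j)) (LinearMap.mem_ker.1 hmem)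
    simp only [T, Fintype.linearCombination_apply, Submodule.coe_sum, Submodule.coe_smul, Submodule.coe_zero,
      Finset.sum_apply, Pi.smul_apply, Pi.zero_apply, smul_eq_mul, w] at h0
    rw [mem_max, Matrix.mul_apply, map_sum]
    refine Eq.trans (Finset.sum_congr rfl fun l _ => ?_) h0
    simp [P', P, hM, constantCoeff_pderiv]
    exact Or.inl rfl
  refine det_mem_sq _ _ (i₁ := i₁) (i₂ := i₂) ?_ (key _) (key _)
  intro hEq
  simpa [i₁, i₂] using Sum.inl_injective (e.injective hEq)

include hf in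
/-- Maximality of the minors forces a quadratic point. -/
theorem quad_of_jac_eq (hJ : jac f = maximalIdeal A) :
    Module.finrank k (lspan f) + 2 = n ∧ ∃ x y : A, ∃ a b c : k, x ∈ maximalIdeal A ∧ y ∈ maximalIdeal A ∧
      4 * a * c - b ^ 2 ≠ 0 ∧ maximalIdeal A = Ideal.span {x, y} ⊔ I ∧
      NodePtLib.qv (MvPowerSeries.C a) (MvPowerSeries.C b) (MvPowerSeries.C c) x y ∈ I ⊔ maximalIdeal A ^ 3 := by
  classical
  have hlow : Module.finrank k (lspan f) + 2 ≤ n := by
    by_contra hcon
    exact (maximalIdeal.isMaximal A).ne_top (hJ.symm.trans (jac_eq_top hf (by omega)))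
  have hrn : Module.finrank k (lspan f) + 2 = n := by
    by_contra hcon
    have hJle : jac f ≤ I ⊔ maximalIdeal A ^ 2 := sup_le (Ideal.span_le.2 (by
      rintro _ ⟨ρ, γ, -, -, rfl⟩
      exact Submodule.mem_sup_right (minor_mem_sq (by omega) ρ γ))) le_sup_left
    have htop : lspan f = ⊤ := by
      rw [eq_top_iff]
      intro v _
      obtain ⟨i, hi, s, hs, he⟩ := Submodule.mem_sup.1 (hJle (hJ.ge (form_mem v)))
      rw [← lin_form v, ← he, map_add, lin_eq_zero_of_mem_sq hs, add_zero]
      exact lin_mem_lspan f hi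
    rw [htop, finrank_top, Module.finrank_fin_fun] at hlow
    omega
  refine ⟨hrn, ?_⟩
  obtain ⟨U, hU⟩ := Submodule.exists_isCompl (lspan f)
  have hU2 : Module.finrank k U = 2 := by
    have h1 := Submodule.finrank_add_eq_of_isCompl hU
    rw [Module.finrank_fin_fun] at h1
    omega
  let bU := (Module.finBasis k U).reindex (finCongr hU2)
  let B := (bU.prod (Module.finBasis k (lspan f))).map (Submodule.prodEquivOfIsCompl _ _ hU.symm)
  choose h hh hhw using fun j => Submodule.mem_map.1 ((Module.finBasis k (lspan f)) j).2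
  have hB : ∀ j, lin k n (h j) = B (Sum.inr j) := fun j => by simp [B, hhw]
  have hW : lspan f ≤ Submodule.span k (Set.range fun j => B (Sum.inr j)) := fun w hw => by
    have h1 := (Module.finBasis k (lspan f)).sum_repr ⟨w, hw⟩
    have h2 := congrArg (fun z : lspan f => (z : Fin n → k)) h1
    simp only [Submodule.coe_sum, Submodule.coe_smul] at h2
    rw [← h2]
    refine Submodule.sum_mem _ fun j _ => Submodule.smul_mem _ _ (Submodule.subset_span ⟨j, ?_⟩)
    show B (Sum.inr j) = _
    rw [← hB, hhw]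
  let x : A := form (B (Sum.inl 0))
  let y : A := form (B (Sum.inl 1))
  have hx : x ∈ maximalIdeal A := form_mem _
  have hy : y ∈ maximalIdeal A := form_mem _
  have hxy : Ideal.span ({x, y} : Set A) ≤ maximalIdeal A := by
    rw [Ideal.span_le]
    rintro z (rfl | rfl) <;> assumption
  have hm : maximalIdeal A = Ideal.span {x, y} ⊔ I := by
    refine le_antisymm ?_ (sup_le hxy (span_le_max hf))
    refine Submodule.le_of_le_smul_of_le_jacobson_bot (maximalIdeal A).fg_of_isNoetherianRing
      (maximalIdeal_le_jacobson _) fun g hg => ?_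
    have e := B.sum_repr (lin k n g)
    rw [Fintype.sum_sum_type, Fin.sum_univ_two] at e
    let g' : A := MvPowerSeries.C (B.repr (lin k n g) (Sum.inl 0)) * x +
      MvPowerSeries.C (B.repr (lin k n g) (Sum.inl 1)) * y + ∑ j, MvPowerSeries.C (B.repr (lin k n g) (Sum.inr j)) * h j
    have hg' : lin k n g' = lin k n g := by
      conv_rhs => rw [← e]
      simp [g', lin_mul, lin_C, hB, x, y, lin_form]
    have hg'm : g' ∈ Ideal.span {x, y} ⊔ I := by
      refine add_mem (Submodule.mem_sup_left (Ideal.mem_span_pair.2 ⟨_, _, rfl⟩)) ?_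
      exact Submodule.mem_sup_right (Ideal.sum_mem _ fun j _ => Ideal.mul_mem_left _ _ (hh j))
    refine Submodule.mem_sup.2 ⟨g', hg'm, g - g', ?_, add_sub_cancel _ _⟩
    rw [smul_eq_mul, ← pow_two]
    exact mem_sq_of_lin_eq_zero (sub_mem hg ((sup_le hxy (span_le_max hf)) hg'm)) (by rw [map_sub, hg', sub_self])
  refine ⟨x, y, ?_⟩
  by_contra! hcon
  let Q : k → k → k → Prop := fun a b c =>
    NodePtLib.qv (MvPowerSeries.C a) (MvPowerSeries.C b) (MvPowerSeries.C c) x y ∈ I ⊔ maximalIdeal A ^ 3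
  obtain ⟨v₁, v₂, hv, hker⟩ := exists_common_kernel Q (fun a b c a' b' c' h1 h2 => by
      have e := add_mem h1 h2
      show NodePtLib.qv _ _ _ x y ∈ _
      convert e using 1
      simp only [NodePtLib.qv, map_add]
      ring) (fun a b c hq => by
      by_contra hne
      exact hcon a b c hx hy hne hm hq)
  let Λ : (Fin n → k) →ₗ[k] k := v₁ • B.coord (Sum.inl 0) + v₂ • B.coord (Sum.inl 1)
  obtain ⟨K, hKdef⟩ : ∃ K : Ideal A, K = lamIdeal Λ := ⟨_, rfl⟩
  have hK2 : maximalIdeal A ^ 2 ≤ K := fun z hz => hKdef ▸ (mem_lamIdeal Λ).2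
    ⟨Ideal.pow_le_self two_ne_zero hz, by rw [lin_eq_zero_of_mem_sq hz, map_zero]⟩
  have hΛW : ∀ w ∈ lspan f, Λ w = 0 := fun w hw => by
    simp only [Λ, LinearMap.add_apply, LinearMap.smul_apply, coord_inl_eq_zero B hW _ hw, smul_zero, add_zero]
  have hIK : I ≤ K := fun z hz => hKdef ▸ (mem_lamIdeal Λ).2 ⟨span_le_max hf hz, hΛW _ (lin_mem_lspan f hz)⟩
  have hdI : ∀ (a : Fin 2) (z : A), z ∈ I → dd (vv B (Sum.inl a)) z ∈ maximalIdeal A := fun a z hz => by
    rw [mem_max, const_dd_vv, coord_inl_eq_zero B hW _ (lin_mem_lspan f hz)]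
  -- derivatives of relations without linear part
  have hgK : ∀ g ∈ I, lin k n g = 0 → ∀ a : Fin 2, dd (vv B (Sum.inl a)) g ∈ K := by
    intro g hg hg0 a
    have hg2 : g ∈ maximalIdeal A ^ 2 := mem_sq_of_lin_eq_zero (span_le_max hf hg) hg0
    have hdec : maximalIdeal A ^ 2 ≤
        Ideal.span {x * x, x * y, y * y} ⊔ I * maximalIdeal A := by
      rw [pow_two]
      conv_lhs => rw [hm]
      rw [Ideal.sup_mul, Ideal.mul_sup, Ideal.mul_sup]
      refine sup_le (sup_le ?_ ?_) (sup_le ?_ ?_)
      · rw [Ideal.span_mul_span', Ideal.span_le]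
        rintro _ ⟨_, (rfl | rfl), _, (rfl | rfl), rfl⟩ <;> refine Submodule.mem_sup_left (Ideal.subset_span ?_) <;>
          simp [mul_comm]
      · rw [mul_comm]; exact le_sup_of_le_right (Ideal.mul_mono_right hxy)
      · exact le_sup_of_le_right (Ideal.mul_mono_right hxy)
      · exact le_sup_of_le_right (Ideal.mul_mono_right (span_le_max hf))
    obtain ⟨s, hs, t, ht, hst⟩ := Submodule.mem_sup.1 (hdec hg2)
    obtain ⟨a₁, s', hs', hs1⟩ := Ideal.mem_span_insert.1 hs
    obtain ⟨b₁, c₁, hs2⟩ := Ideal.mem_span_pair.1 hs'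
    let a₀ := MvPowerSeries.constantCoeff a₁
    let b₀ := MvPowerSeries.constantCoeff b₁
    let c₀ := MvPowerSeries.constantCoeff c₁
    let q := NodePtLib.qv (MvPowerSeries.C a₀) (MvPowerSeries.C b₀) (MvPowerSeries.C c₀) x y
    let cub := g - q - t
    have hcub : cub ∈ maximalIdeal A ^ 3 := by
      rw [show cub = (a₁ - MvPowerSeries.C a₀) * (x * x) + (b₁ - MvPowerSeries.C b₀) * (x * y) +
        (c₁ - MvPowerSeries.C c₀) * (y * y) by
          simp only [cub, q, NodePtLib.qv, ← hst, hs1, ← hs2]; ring, pow_succ' _ 2, pow_two]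
      exact add_mem (add_mem (Ideal.mul_mem_mul (sub_const_mem _) (Ideal.mul_mem_mul hx hx))
        (Ideal.mul_mem_mul (sub_const_mem _) (Ideal.mul_mem_mul hx hy)))
        (Ideal.mul_mem_mul (sub_const_mem _) (Ideal.mul_mem_mul hy hy))
    have hQ : Q a₀ b₀ c₀ := by
      show q ∈ _
      rw [show q = (g - t) - cub by simp only [cub]; ring]
      exact sub_mem (Submodule.mem_sup_left (sub_mem hg ((Ideal.mul_le_inf.trans inf_le_left : I * maximalIdeal A ≤ I) ht))) (Submodule.mem_sup_right hcub)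
    rw [show g = q + t + cub by simp only [cub]; ring, map_add, map_add]
    refine add_mem (add_mem (hKdef ▸ (mem_lamIdeal Λ).2 ⟨dd_mem_of_mem_sq _ ?_, ?_⟩) ?_)
      (hK2 (dd_mem_of_mem_cube _ hcub))
    · rw [show q = g - t - cub by simp only [cub]; ring]
      refine sub_mem (sub_mem hg2 ?_) (Ideal.pow_le_pow_right (by omega) hcub)
      rw [pow_two]
      exact Ideal.mul_mono_left (span_le_max hf) ht
    · obtain ⟨k₁, k₂⟩ := hker _ _ _ hQ
      rw [lin_dd_qv _ _ _ _ hx hy]
      simp only [x, y, lin_form, sum_vv]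
      fin_cases a <;> simp [Λ, Finsupp.single_apply]
      · linear_combination k₁
      · linear_combination k₂
    · refine Submodule.mul_induction_on ht (fun p hp p' hp' => ?_) fun p p' h1 h2 => by
        rw [map_add]; exact add_mem h1 h2
      rw [Derivation.leibniz, smul_eq_mul, smul_eq_mul]
      refine add_mem (Ideal.mul_mem_right _ _ (hIK hp)) (hK2 ?_)
      rw [pow_two]
      exact Ideal.mul_mem_mul hp' (hdI a p hp)
  -- all minors
  have hJK : jac f ≤ K := by
    refine sup_le (Ideal.span_le.2 ?_) hIK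
    rintro _ ⟨ρ, γ, -, -, rfl⟩
    let g : Fin m → A := fun j => f j - ∑ t, MvPowerSeries.C (B.repr (lin k n (f j)) (Sum.inr t)) * h t
    have hg1 : ∀ j, g j ∈ I := fun j =>
      sub_mem (Ideal.subset_span ⟨j, rfl⟩) (Ideal.sum_mem _ fun t _ => Ideal.mul_mem_left _ _ (hh t))
    have hg0 : ∀ j, lin k n (g j) = 0 := fun j => by
      have e := B.sum_repr (lin k n (f j))
      have hz : ∀ a, B.repr (lin k n (f j)) (Sum.inl a) = 0 := fun a =>
        coord_inl_eq_zero B hW a (lin_mem_lspan f (Ideal.subset_span ⟨j, rfl⟩))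
      rw [Fintype.sum_sum_type] at e
      simp only [hz, zero_smul, Finset.sum_const_zero, zero_add] at e
      rw [map_sub, map_sum, sub_eq_zero]
      conv_lhs => rw [← e]
      refine Finset.sum_congr rfl fun t _ => ?_
      rw [lin_mul, lin_C, smul_zero, add_zero, MvPowerSeries.constantCoeff_C, hB]
    let F : Fin (Module.finrank k (lspan f)) ⊕ Fin m → A := Sum.elim h g
    let G : Matrix (Fin (Module.finrank k (lspan f)) ⊕ Fin m) (Fin 2 ⊕ Fin (Module.finrank k (lspan f))) A :=
      Matrix.of fun t s => dd (vv B s) (F t)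
    let P : Matrix (Fin (n - 1)) (Fin (Module.finrank k (lspan f)) ⊕ Fin m) A := Matrix.of fun i =>
      Sum.elim (fun t => MvPowerSeries.C (B.repr (lin k n (f (ρ i))) (Sum.inr t))) (fun t => if ρ i = t then 1 else 0)
    let R : Matrix (Fin 2 ⊕ Fin (Module.finrank k (lspan f))) (Fin (n - 1)) A :=
      Matrix.of fun s i => MvPowerSeries.C (B s (γ i))
    have e : (Matrix.of fun (j : Fin m) (i : Fin n) => MvPowerSeries.pderiv k i (f j)).submatrix ρ γ = P * G * R := by
      refine Matrix.ext fun i j => ?_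
      rw [Matrix.submatrix_apply, Matrix.of_apply, sum_vv_pderiv B, Matrix.mul_apply]
      refine Finset.sum_congr rfl fun s _ => ?_
      rw [show R s j = MvPowerSeries.C (B s (γ j)) from rfl, mul_comm]
      congr 1
      rw [Matrix.mul_apply, Fintype.sum_sum_type,
        show f (ρ i) = ∑ t, MvPowerSeries.C (B.repr (lin k n (f (ρ i))) (Sum.inr t)) * h t + g (ρ i) from
          (add_sub_cancel _ _).symm, map_add, map_sum]
      have hC : ∀ t : k, dd (vv B s) (MvPowerSeries.C t : A) = 0 := fun t => by rw [dd_apply]; simp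
      simp [P, G, F, Derivation.leibniz, hC]
    rw [SetLike.mem_coe, e]
    refine det_mul_mul_mem K P G R fun ρ' γ' hρ' hγ' => ?_
    let c : Fin (Module.finrank k (lspan f) + 1) ≃ Fin (n - 1) := finCongr (by omega)
    rw [← Matrix.det_submatrix_equiv_self c, Matrix.submatrix_submatrix]
    exact minor_coord_mem B h K hK2 hB g (fun j => mem_sq_of_lin_eq_zero (span_le_max hf (hg1 j)) (hg0 j))
      (fun j a => hgK _ (hg1 j) (hg0 j) a) _ rfl _ _ (hρ'.comp c.injective) (hγ'.comp c.injective)
  have hv1 := ((mem_lamIdeal Λ).1 (hKdef ▸ hJK (hJ.ge hx))).2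
  have hv2 := ((mem_lamIdeal Λ).1 (hKdef ▸ hJK (hJ.ge hy))).2
  simp [Λ, x, y, lin_form, Finsupp.single_apply] at hv1 hv2
  rcases hv with hv | hv
  exacts [hv hv1, hv hv2]

include hf in
/-- A quadratic point makes the minors generate the maximal ideal. -/
theorem jac_eq_of_quad {x y : A} {a b c : k} (hx : x ∈ maximalIdeal A) (hy : y ∈ maximalIdeal A)
    (hΔ : 4 * a * c - b ^ 2 ≠ 0) (hm : maximalIdeal A = Ideal.span {x, y} ⊔ I)
    (hq : NodePtLib.qv (MvPowerSeries.C a) (MvPowerSeries.C b) (MvPowerSeries.C c) x y ∈ I ⊔ maximalIdeal A ^ 3)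
    (hnp : ∀ z : A, maximalIdeal A ≠ Ideal.span {z} ⊔ I) : jac f = maximalIdeal A := by
  classical
  have hlow : Module.finrank k (lspan f) + 2 ≤ n := by
    by_contra hcon
    obtain ⟨U, hU⟩ := Submodule.exists_isCompl (lspan f)
    have hU1 : Module.finrank k U ≤ 1 := by
      have h1 := Submodule.finrank_add_eq_of_isCompl hU
      rw [Module.finrank_fin_fun] at h1
      omega
    obtain ⟨u, hu⟩ := finrank_le_one_iff.1 hU1
    refine hnp (form (u : Fin n → k)) (le_antisymm ?_ (sup_le ((Ideal.span_singleton_le_iff_mem _).2 (form_mem _))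
      (span_le_max hf)))
    refine Submodule.le_of_le_smul_of_le_jacobson_bot (maximalIdeal A).fg_of_isNoetherianRing
      (maximalIdeal_le_jacobson _) fun g hg => ?_
    have htop : lin k n g ∈ lspan f ⊔ U := hU.sup_eq_top.ge Submodule.mem_top
    obtain ⟨w, hw, s, hs, hws⟩ := Submodule.mem_sup.1 htop
    obtain ⟨t, ht⟩ := hu ⟨s, hs⟩
    obtain ⟨i, hi, rfl⟩ := Submodule.mem_map.1 hw
    let g' : A := MvPowerSeries.C t * form (u : Fin n → k) + i
    have hg'm : g' ∈ Ideal.span {form (u : Fin n → k)} ⊔ I :=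
      add_mem (Submodule.mem_sup_left (Ideal.mem_span_singleton'.2 ⟨_, rfl⟩)) (Submodule.mem_sup_right hi)
    have hg' : lin k n g' = lin k n g := by
      rw [← hws, ← show t • (u : Fin n → k) = s from congrArg Subtype.val ht]
      simp [g', lin_mul, lin_C, lin_form, add_comm]
    refine Submodule.mem_sup.2 ⟨g', hg'm, g - g', ?_, add_sub_cancel _ _⟩
    rw [smul_eq_mul, ← pow_two]
    refine mem_sq_of_lin_eq_zero (sub_mem hg ?_) (by rw [map_sub, hg', sub_self])
    exact add_mem (Ideal.mul_mem_left _ _ (form_mem _)) (span_le_max hf hi)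
  choose h hh hhw using fun j => Submodule.mem_map.1 ((Module.finBasis k (lspan f)) j).2
  let vec : Fin 2 ⊕ Fin (Module.finrank k (lspan f)) → Fin n → k :=
    Sum.elim ![lin k n x, lin k n y] fun j => lin k n (h j)
  have hspan : ⊤ ≤ Submodule.span k (Set.range vec) := by
    intro v _
    obtain ⟨s, hs, i, hi, he⟩ := Submodule.mem_sup.1 (hm.le (form_mem v))
    obtain ⟨p, q, rfl⟩ := Ideal.mem_span_pair.1 hs
    rw [← lin_form v, ← he, map_add, map_add, lin_mul, lin_mul, mem_max.1 hx, mem_max.1 hy, zero_smul, zero_smul,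
      add_zero, add_zero]
    refine add_mem (add_mem (Submodule.smul_mem _ _ (Submodule.subset_span ⟨Sum.inl 0, rfl⟩))
      (Submodule.smul_mem _ _ (Submodule.subset_span ⟨Sum.inl 1, rfl⟩))) ?_
    have hi' := (Module.finBasis k (lspan f)).sum_repr ⟨_, lin_mem_lspan f hi⟩
    have h2 := congrArg (fun z : lspan f => (z : Fin n → k)) hi'
    simp only [Submodule.coe_sum, Submodule.coe_smul] at h2
    rw [← h2]
    exact Submodule.sum_mem _ fun j _ => Submodule.smul_mem _ _ (Submodule.subset_span ⟨Sum.inr j, hhw j⟩)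
  have hcard : Fintype.card (Fin 2 ⊕ Fin (Module.finrank k (lspan f))) = Module.finrank k (Fin n → k) := by
    refine le_antisymm (by simp; omega) ?_
    rw [← finrank_top k (Fin n → k), ← top_le_iff.1 hspan]
    exact finrank_range_le_card vec
  have hn : n = Module.finrank k (lspan f) + 2 := by
    simpa [add_comm] using hcard.symm
  let B := basisOfTopLeSpanOfCardEqFinrank vec hspan hcard
  have hBv : ∀ s, B s = vec s := fun s => by simp [B]
  have hB : ∀ j, lin k n (h j) = B (Sum.inr j) := fun j => (hBv (Sum.inr j)).symm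
  obtain ⟨i, hi, w, hw, hiw⟩ := Submodule.mem_sup.1 hq
  have hi2 : i ∈ maximalIdeal A ^ 2 := by
    rw [eq_sub_of_add_eq hiw]
    refine sub_mem ?_ (Ideal.pow_le_pow_right (by omega) hw)
    simp only [NodePtLib.qv, pow_two]
    exact add_mem (add_mem (Ideal.mul_mem_left _ _ (Ideal.mul_mem_mul hx hx))
      (by rw [mul_assoc]; exact Ideal.mul_mem_left _ _ (Ideal.mul_mem_mul hx hy)))
      (Ideal.mul_mem_left _ _ (Ideal.mul_mem_mul hy hy))
  have hJm : jac f ≤ maximalIdeal A := jac_le_max hf hlow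
  have hder : ∀ s : Fin 2, dd (vv B (Sum.inl s)) (NodePtLib.qv (MvPowerSeries.C a) (MvPowerSeries.C b)
      (MvPowerSeries.C c) x y) ∈ jac f ⊔ maximalIdeal A ^ 2 := fun s => by
    rw [← hiw, map_add]
    exact add_mem (dd_mem_jac_sup hf B h hh hB hn s hi (lin_eq_zero_of_mem_sq hi2))
      (Submodule.mem_sup_right (dd_mem_of_mem_cube _ hw))
  refine le_antisymm hJm (Submodule.le_of_le_smul_of_le_jacobson_bot (maximalIdeal A).fg_of_isNoetherianRing
    (maximalIdeal_le_jacobson _) ?_)
  rw [smul_eq_mul, ← pow_two]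
  let L : Submodule k (Fin n → k) := ((jac f ⊔ maximalIdeal A ^ 2).restrictScalars k).map (lin k n)
  have hx0 : lin k n x = B (Sum.inl 0) := (hBv (Sum.inl 0)).symm
  have hy0 : lin k n y = B (Sum.inl 1) := (hBv (Sum.inl 1)).symm
  have h0 : (2 * a) • lin k n x + b • lin k n y ∈ L := ⟨_, hder 0, by
    rw [lin_dd_qv _ _ _ _ hx hy]; simp only [sum_vv, hx0, hy0]; simp⟩
  have h1 : b • lin k n x + (2 * c) • lin k n y ∈ L := ⟨_, hder 1, by
    rw [lin_dd_qv _ _ _ _ hx hy]; simp only [sum_vv, hx0, hy0]; simp⟩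
  have hLx : lin k n x ∈ L := by
    have := L.smul_mem (4 * a * c - b ^ 2)⁻¹ (sub_mem (L.smul_mem (2 * c) h0) (L.smul_mem b h1))
    convert this using 1
    match_scalars <;> field_simp <;> ring
  have hLy : lin k n y ∈ L := by
    have := L.smul_mem (4 * a * c - b ^ 2)⁻¹ (sub_mem (L.smul_mem (2 * a) h1) (L.smul_mem b h0))
    convert this using 1
    match_scalars <;> field_simp <;> ring
  intro g hg
  obtain ⟨s, hs, j, hj, he⟩ := Submodule.mem_sup.1 (hm.le hg)
  obtain ⟨p, q, rfl⟩ := Ideal.mem_span_pair.1 hs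
  have hmemL : ∀ z ∈ maximalIdeal A, lin k n z ∈ L → z ∈ jac f ⊔ maximalIdeal A ^ 2 := fun z hz hzL => by
    obtain ⟨z', hz', e⟩ := Submodule.mem_map.1 hzL
    rw [← add_sub_cancel z' z]
    refine add_mem hz' (Submodule.mem_sup_right (mem_sq_of_lin_eq_zero (sub_mem hz ?_) (by rw [map_sub, e, sub_self])))
    exact (sup_le hJm (Ideal.pow_le_self two_ne_zero)) hz'
  rw [← he]
  exact add_mem (add_mem (Ideal.mul_mem_left _ _ (hmemL x hx hLx)) (Ideal.mul_mem_left _ _ (hmemL y hy hLy)))
    (Submodule.mem_sup_left (Submodule.mem_sup_right hj))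

end Groth.Agent.NodeMinorLib
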